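import Cfsg.Agent.H53.U34.Check.Parts

/-!
# Kernel evaluation of the search (CertB)
-/

set_option autoImplicit false

namespace Cfsg.Agent.H53.U34.Check

theorem part_B : part [4, 2] = true := by decide +kernel


end Cfsg.Agent.H53.U34.Check
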