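import Cfsg.Agent.H53.U34.Check.Final
import Cfsg.Agent.H53.U34.Check.CertA
import Cfsg.Agent.H53.U34.Check.CertB
import Cfsg.Agent.H53.U34.Check.CertC
import Cfsg.Agent.H53.U34.Check.CertU
import Cfsg.Agent.H53.U34.Check.CertV
import Cfsg.Agent.H53.U34.Check.CertW

/-!
# The column data are contradictory
-/

set_option autoImplicit false

namespace Cfsg.Agent.H53.U34.Check

theorem length_branches : (branches (key target) cands).length = 11 := by decide +kernel

theorem target_facts : target.ok = true ∧ ¬(target.a = 0 ∧ target.f = 0 ∧ target.v = 0) := by decide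

theorem part_spec {is : List ℕ} (h : part is = true) {i : ℕ} (hm : i ∈ is)
    (hi : i < (branches (key target) cands).length) :
    cover leaf 39 ((branches (key target) cands)[i]'hi).2
      (target.sub (wt ((branches (key target) cands)[i]'hi).1.orbit)) [((branches (key target) cands)[i]'hi).1] =
      true := by
  rw [part, List.all_eq_true] at h
  have h' := h i hm
  rw [List.getElem?_eq_getElem hi] at h'
  exact h'

theorem search_eq : search = true := by
  obtain ⟨h1, h2⟩ := target_facts
  rw [search, cover, if_neg (by simp [h1]), if_neg h2, List.all_eq_true]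
  intro p hp
  obtain ⟨i, hi, rfl⟩ := List.mem_iff_getElem.1 hp
  have hi' : i < 11 := length_branches ▸ hi
  have hmem : i ∈ [1] ∨ i ∈ [4, 2] ∨ i ∈ [0, 3, 5, 6, 7, 8, 9, 10] := by
    interval_cases i <;> simp
  rcases hmem with h | h | h
  · exact part_spec part_A h hi
  · exact part_spec part_B h hi
  · exact part_spec part_C h hi

theorem mem_small {c : ℤ} (h : c * c ≤ 5) : c ∈ small := by
  have h1 : -2 ≤ c := by nlinarith
  have h2 : c ≤ 2 := by nlinarith
  interval_cases c <;> simp [small]

/-- The finite checks hold. -/
theorem checks : Checks where
  search := search_eq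
  universe_covered c0 c1 c2 c3 c4 v h0 h1 h2 h3 h4 hv hne := by
    have hv' : v ∈ [-3, -2, -1, 0, 1, 2, 3] := by
      have : -3 ≤ v := by nlinarith
      have : v ≤ 3 := by nlinarith
      interval_cases v <;> simp
    have hall : coveredAt c0 = true := by
      have := mem_small (c := c0) (by omega)
      simp only [small, List.mem_cons, List.not_mem_nil, or_false] at this
      rcases this with rfl | rfl | rfl | rfl | rfl
      · exact covered_m2
      · exact covered_m1
      · exact covered_0
      · exact covered_1
      · exact covered_2
    simp only [coveredAt, List.all_eq_true, Bool.or_eq_true, decide_eq_true_eq] at hall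
    exact (hall c1 (mem_small h1) c2 (mem_small h2) c3 (mem_small h3) c4 (mem_small h4) v hv').resolve_left hne

end Cfsg.Agent.H53.U34.Check

namespace Cfsg.Agent.H53.U34

/-- No column data exist. -/
theorem Rows.false {X : Type*} [Fintype X] (D : Rows X) : False := Check.false_of_rows Check.checks D

end Cfsg.Agent.H53.U34
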