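import Mathlib.Data.Int.Basic
import Mathlib.Data.List.Basic
import Mathlib.Algebra.BigOperators.Group.List.Basic

/-!
# The finite search for the column data at an involution

A `Row` is the vector of lattice coordinates of one character; `cover` enumerates the decompositions of the
Gram matrix into Galois orbits of rows, `deg` refutes the degree equations for one signed decomposition.
-/

set_option autoImplicit false

namespace Cfsg.Agent.H53.U34.Check

/-- Lattice coordinates of a character. -/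
structure Row where
  c0 : ℤ
  c1 : ℤ
  c2 : ℤ
  c3 : ℤ
  c4 : ℤ
  v : ℤ
deriving DecidableEq

namespace Row

/-- The Galois twist `k ↦ 2 k` of the coordinates. -/
def sig (r : Row) : Row := ⟨r.c0, r.c2, r.c4, r.c1, r.c3, r.v⟩

/-- The opposite row. -/
def neg (r : Row) : Row := ⟨-r.c0, -r.c1, -r.c2, -r.c3, -r.c4, -r.v⟩

/-- The orbit of a row. -/
def orbit (r : Row) : List Row :=
  if r.sig = r then [r] else if r.sig.sig = r then [r, r.sig] else [r, r.sig, r.sig.sig, r.sig.sig.sig]

/-- The opposite of the value at the involution. -/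
def q (r : Row) : ℤ := 4 * (r.c0 + r.c1 + r.c2 + r.c3 + r.c4) + 5 * r.v

/-- The degree minus `64 E`. -/
def off (r : Row) : ℤ := 3 * r.q - 4 * r.v

/-- A lower bound for `E`. -/
def lo (r : Row) : ℤ :=
  max (1 + r.v) (max ((4 - (r.c0 + r.c1 + r.c2 + r.c3 + r.c4) - r.v + 3) / 4) ((-r.off) / 64 + 1))

end Row

/-- The Galois invariant entries of the Gram matrix of a multiset of rows. -/
structure Wt where
  a : ℤ
  b : ℤ
  e : ℤ
  f : ℤ
  g : ℤ
  h : ℤ
  i : ℤ
  v : ℤ

namespace Wt

/-- Difference of Gram data. -/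
def sub (M N : Wt) : Wt :=
  ⟨M.a - N.a, M.b - N.b, M.e - N.e, M.f - N.f, M.g - N.g, M.h - N.h, M.i - N.i, M.v - N.v⟩

/-- Necessary conditions for Gram data. -/
def ok (M : Wt) : Bool :=
  decide (0 ≤ M.a) && decide (0 ≤ M.f) && decide (0 ≤ M.v) &&
  decide (M.b * M.b ≤ M.a * M.f) && decide (M.e * M.e ≤ M.a * M.v) && decide (M.i * M.i ≤ M.f * M.v) &&
  decide (M.g * M.g ≤ M.f * M.f) && decide (M.h * M.h ≤ M.f * M.f) &&
  decide (0 ≤ M.f + 2 * M.g + M.h) && decide (0 ≤ M.f + M.h - 2 * M.g) && decide (0 ≤ M.f - M.h) &&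
  decide (4 * (M.b * M.b) ≤ M.a * (M.f + 2 * M.g + M.h)) &&
  decide (4 * (M.i * M.i) ≤ (M.f + 2 * M.g + M.h) * M.v)

end Wt

/-- Gram data of a list of rows. -/
def wt (l : List Row) : Wt :=
  ⟨(l.map fun r => r.c0 * r.c0).sum, (l.map fun r => r.c0 * r.c1).sum, (l.map fun r => r.c0 * r.v).sum,
    (l.map fun r => r.c1 * r.c1).sum, (l.map fun r => r.c1 * r.c2).sum, (l.map fun r => r.c1 * r.c4).sum,
    (l.map fun r => r.c1 * r.v).sum, (l.map fun r => r.v * r.v).sum⟩

/-- The Gram data of the non-trivial characters. -/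
def target : Wt := ⟨4, 1, -3, 5, 1, 1, -4, 15⟩

/-- Orbit representatives up to sign. -/
def cands : List Row :=
  [⟨1, 1, 1, 1, 1, -1⟩, ⟨1, 1, 1, 1, 1, -2⟩, ⟨1, 1, 1, 1, 1, -3⟩, ⟨1, 1, 0, 0, 1, 0⟩, ⟨1, 1, 0, 0, 1, -1⟩,
    ⟨1, 1, 0, 0, 1, -2⟩, ⟨1, 0, 0, 0, 0, 2⟩, ⟨1, 0, 0, 0, 0, 1⟩, ⟨1, 0, 0, 0, 0, 0⟩, ⟨1, 0, 0, 0, 0, -1⟩,
    ⟨1, 0, 0, 0, 0, -2⟩, ⟨0, 2, 0, 0, 0, -1⟩, ⟨0, 1, 1, 1, 1, -1⟩, ⟨0, 1, 1, 1, 1, -2⟩, ⟨0, 1, 1, 1, 1, -3⟩,
    ⟨0, 1, 1, 1, -1, -1⟩, ⟨0, 1, 1, 0, 0, -1⟩, ⟨0, 1, 0, 0, 1, 0⟩, ⟨0, 1, 0, 0, 1, -1⟩, ⟨0, 1, 0, 0, 1, -2⟩,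
    ⟨0, 1, 0, 0, 0, 0⟩, ⟨0, 1, 0, 0, 0, -1⟩, ⟨0, 1, 0, 0, -1, 1⟩, ⟨0, 1, 0, 0, -1, 0⟩, ⟨0, 1, 0, -1, 0, 1⟩,
    ⟨0, 1, 0, -1, 0, 0⟩, ⟨0, 1, 0, -1, 0, -1⟩, ⟨0, 0, 0, 0, 0, 2⟩, ⟨0, 0, 0, 0, 0, 1⟩]

/-- A row is covered by `cands`, or cannot occur. -/
def covered (r : Row) : Bool :=
  !(target.sub (wt r.orbit)).ok || r.orbit.any fun s => cands.contains s || cands.contains s.neg

/-- The choices of a first element satisfying `key`, with what stays allowed. -/
def branches (key : Row → Bool) : List Row → List (Row × List Row)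
  | [] => []
  | r :: rs => if key r then (r, r :: rs) :: branches key rs
      else (branches key rs).map fun p => (p.1, r :: p.2)

/-- The diagonal entry to be covered next. -/
def key (M : Wt) (r : Row) : Bool :=
  if M.a ≠ 0 then decide ((wt r.orbit).a ≠ 0)
  else if M.f ≠ 0 then decide ((wt r.orbit).f ≠ 0) else decide ((wt r.orbit).v ≠ 0)

/-- Enumerate the decompositions of `M`. -/
def cover (leaf : List Row → Bool) : ℕ → List Row → Wt → List Row → Bool
  | 0, _, _, _ => false
  | n + 1, al, M, ch =>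
    if !M.ok then true
    else if M.a = 0 ∧ M.f = 0 ∧ M.v = 0 then leaf ch
    else (branches (key M) al).all fun p => cover leaf n p.2 (M.sub (wt p.1.orbit)) (p.1 :: ch)

/-- The data of one orbit used by the degree equations. -/
structure Item where
  wv : ℤ
  wu : ℤ
  l0 : ℤ
  l1 : ℤ
  off : ℤ
  lo : ℤ

namespace Item

/-- The least degree. -/
def d (w : Item) : ℤ := 64 * w.lo + w.off

/-- The item with `E` raised by one. -/
def incr (w : Item) : Item := { w with lo := w.lo + 1 }

/-- The item of a signed orbit representative. -/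
def ofRow (r : Row) : Item :=
  ⟨(r.orbit.map fun s => s.v).sum * (r.q * r.q), (r.orbit.map fun s => s.c0 - s.c1).sum * (r.q * r.q),
    (r.orbit.map fun s => s.c0).sum, (r.orbit.map fun s => s.c1).sum,
    r.off, r.lo⟩

end Item

/-- An unnormalised fraction. -/
structure Frac where
  num : ℤ
  den : ℤ

/-- `t` minus `x / d`. -/
def Frac.subDiv (t : Frac) (x d : ℤ) : Frac := ⟨t.num * d - x * t.den, t.den * d⟩

/-- `t` minus the positive terms `f w / w.d`. -/
def subPos (f : Item → ℤ) : List Item → Frac → Frac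
  | [], t => t
  | w :: ws, t => subPos f ws (if 0 < f w then t.subDiv (f w) w.d else t)

/-- `t` minus the negative terms `f w / w.d`. -/
def subNeg (f : Item → ℤ) : List Item → Frac → Frac
  | [], t => t
  | w :: ws, t => subNeg f ws (if f w < 0 then t.subDiv (f w) w.d else t)

/-- `t = Σ f w / (w.d + 64 k)` has no solution. -/
def quadBad (f : Item → ℤ) (t : Frac) (ws : List Item) : Bool :=
  decide (0 < (subPos f ws t).num) || decide ((subNeg f ws t).num < 0)

/-- `t = Σ f w * (w.lo + k)` has no solution. -/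
def linBad (f : Item → ℤ) (t : ℤ) (ws : List Item) : Bool :=
  let s := t - (ws.map fun w => f w * w.lo).sum
  (decide (0 < s) && ws.all fun w => decide (f w ≤ 0)) || (decide (s < 0) && ws.all fun w => decide (0 ≤ f w))

/-- Weight used to choose the branching item. -/
def Item.score (w : Item) : ℤ := ((w.wv.natAbs + 3 * w.wu.natAbs : ℕ) : ℤ) * 100000 / w.d

/-- Extract the item of largest score. -/
def pick : List Item → Option (Item × List Item)
  | [] => none
  | w :: ws =>
    match pick ws with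
    | none => some (w, ws)
    | some (u, us) => if u.score ≤ w.score then some (w, ws) else some (u, w :: us)

/-- The remaining targets of the four equations. -/
structure Goal where
  rv : Frac
  ru : Frac
  s0 : ℤ
  s1 : ℤ

/-- The goal after fixing `w`. -/
def Goal.fix (G : Goal) (w : Item) : Goal :=
  ⟨G.rv.subDiv w.wv w.d, G.ru.subDiv w.wu w.d, G.s0 - w.l0 * w.lo, G.s1 - w.l1 * w.lo⟩

/-- The starting goal. -/
def start : Goal := ⟨⟨1, 1⟩, ⟨-1, 1⟩, -1, -1⟩

/-- Some equation is already impossible. -/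
def Goal.bad (G : Goal) (ws : List Item) : Bool :=
  quadBad Item.wv G.rv ws || quadBad Item.wu G.ru ws || linBad Item.l0 G.s0 ws || linBad Item.l1 G.s1 ws

/-- Refute the degree equations. -/
def deg : ℕ → Goal → List Item → Bool
  | 0, _, _ => false
  | n + 1, G, ws =>
    if G.bad ws then true
    else match pick ws with
      | none => false
      | some (w, rest) => deg n (G.fix w) rest && deg n G (w.incr :: rest)

/-- Sign choices, up to the order of equal rows. -/
def signed : List Row → List (List Row)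
  | [] => [[]]
  | r :: rs => (signed rs).flatMap fun l => if l.contains r then [r :: l] else [r :: l, r.neg :: l]

/-- A decomposition is refuted for every choice of signs. -/
def leaf (ch : List Row) : Bool :=
  (signed ch).all fun l => deg 4000 start (l.map Item.ofRow)

/-- The whole search. -/
def search : Bool := cover leaf 40 cands target []

end Cfsg.Agent.H53.U34.Check
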