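import Cfsg.Agent.H53.U34.Check.Defs
import Mathlib.Algebra.Order.Field.Rat
import Mathlib.Algebra.Order.Field.Basic
import Mathlib.Tactic.Linarith
import Mathlib.Tactic.Positivity
import Mathlib.Tactic.Ring
import Mathlib.Tactic.FieldSimp

/-!
# Soundness of the refutation of the degree equations
-/

set_option autoImplicit false

namespace Cfsg.Agent.H53.U34.Check

/-- The value of a fraction. -/
def Frac.val (t : Frac) : ℚ := (t.num : ℚ) / t.den

theorem Frac.val_subDiv {t : Frac} (ht : 0 < t.den) {x d : ℤ} (hd : 0 < d) :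
    (t.subDiv x d).val = t.val - (x : ℚ) / d := by
  have h1 : (t.den : ℚ) ≠ 0 := by exact_mod_cast ht.ne'
  have h2 : (d : ℚ) ≠ 0 := by exact_mod_cast hd.ne'
  simp only [Frac.val, Frac.subDiv]
  push_cast
  field_simp

/-- Solutions of the four equations: each item has `E = lo + k`. -/
def Sol : List Item → ℚ → ℚ → ℤ → ℤ → Prop
  | [], a, b, s, t => a = 0 ∧ b = 0 ∧ s = 0 ∧ t = 0
  | w :: ws, a, b, s, t => ∃ k : ℕ, Sol ws (a - (w.wv : ℚ) / ((w.d + 64 * k : ℤ) : ℚ))
      (b - (w.wu : ℚ) / ((w.d + 64 * k : ℤ) : ℚ)) (s - w.l0 * (w.lo + k)) (t - w.l1 * (w.lo + k))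

theorem Sol.perm {l l' : List Item} (h : l.Perm l') :
    ∀ {a b : ℚ} {s t : ℤ}, Sol l a b s t → Sol l' a b s t := by
  induction h with
  | nil => exact id
  | cons x _ ih => rintro a b s t ⟨k, hk⟩; exact ⟨k, ih hk⟩
  | swap x y l =>
    rintro a b s t ⟨k, m, hm⟩
    refine ⟨m, k, ?_⟩
    rwa [sub_right_comm a, sub_right_comm b, sub_right_comm s, sub_right_comm t]
  | trans _ _ ih1 ih2 => exact fun h => ih2 (ih1 h)

theorem subPos_den {f : Item → ℤ} : ∀ {ws : List Item} {t : Frac}, (∀ w ∈ ws, 0 < w.d) → 0 < t.den →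
    0 < (subPos f ws t).den
  | [], _, _, ht => ht
  | w :: ws, t, hw, ht => by
    rw [subPos]
    refine subPos_den (fun u hu => hw u (List.mem_cons_of_mem _ hu)) ?_
    split_ifs
    · exact mul_pos ht (hw w List.mem_cons_self)
    · exact ht

theorem subNeg_den {f : Item → ℤ} : ∀ {ws : List Item} {t : Frac}, (∀ w ∈ ws, 0 < w.d) → 0 < t.den →
    0 < (subNeg f ws t).den
  | [], _, _, ht => ht
  | w :: ws, t, hw, ht => by
    rw [subNeg]
    refine subNeg_den (fun u hu => hw u (List.mem_cons_of_mem _ hu)) ?_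
    split_ifs
    · exact mul_pos ht (hw w List.mem_cons_self)
    · exact ht

theorem subPos_mono {f : Item → ℤ} : ∀ {ws : List Item} {t u : Frac}, (∀ w ∈ ws, 0 < w.d) → 0 < t.den →
    0 < u.den → t.val ≤ u.val → (subPos f ws t).val ≤ (subPos f ws u).val
  | [], _, _, _, _, _, h => h
  | w :: ws, t, u, hw, ht, hu, h => by
    have hd := hw w List.mem_cons_self
    simp only [subPos]
    split_ifs
    · refine subPos_mono (fun z hz => hw z (List.mem_cons_of_mem _ hz)) (mul_pos ht hd) (mul_pos hu hd) ?_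
      rw [Frac.val_subDiv ht hd, Frac.val_subDiv hu hd]; linarith
    · exact subPos_mono (fun z hz => hw z (List.mem_cons_of_mem _ hz)) ht hu h

theorem subPos_val {f : Item → ℤ} : ∀ {ws : List Item} {t : Frac}, (∀ w ∈ ws, 0 < w.d) → 0 < t.den →
    (subPos f ws t).val = t.val - (ws.map fun w => max 0 ((f w : ℚ) / w.d)).sum
  | [], _, _, _ => by simp [subPos]
  | w :: ws, t, hw, ht => by
    have hd := hw w List.mem_cons_self
    have hdq : (0 : ℚ) < w.d := by exact_mod_cast hd
    have hws : ∀ z ∈ ws, 0 < z.d := fun z hz => hw z (List.mem_cons_of_mem _ hz)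
    simp only [subPos, List.map_cons, List.sum_cons]
    split_ifs with hf
    · rw [subPos_val (t := t.subDiv _ _) hws (mul_pos ht hd), Frac.val_subDiv ht hd,
        max_eq_right (div_nonneg (by exact_mod_cast hf.le) hdq.le)]
      ring
    · rw [subPos_val hws ht, max_eq_left (div_nonpos_of_nonpos_of_nonneg
        (by exact_mod_cast not_lt.1 hf) hdq.le)]
      ring

theorem subNeg_val {f : Item → ℤ} : ∀ {ws : List Item} {t : Frac}, (∀ w ∈ ws, 0 < w.d) → 0 < t.den →
    (subNeg f ws t).val = t.val - (ws.map fun w => min 0 ((f w : ℚ) / w.d)).sum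
  | [], _, _, _ => by simp [subNeg]
  | w :: ws, t, hw, ht => by
    have hd := hw w List.mem_cons_self
    have hdq : (0 : ℚ) < w.d := by exact_mod_cast hd
    have hws : ∀ z ∈ ws, 0 < z.d := fun z hz => hw z (List.mem_cons_of_mem _ hz)
    simp only [subNeg, List.map_cons, List.sum_cons]
    split_ifs with hf
    · rw [subNeg_val (t := t.subDiv _ _) hws (mul_pos ht hd), Frac.val_subDiv ht hd,
        min_eq_right (div_nonpos_of_nonpos_of_nonneg (by exact_mod_cast hf.le) hdq.le)]
      ring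
    · rw [subNeg_val hws ht, min_eq_left (div_nonneg (by exact_mod_cast not_lt.1 hf) hdq.le)]
      ring

theorem term_bounds (x : ℤ) {d : ℤ} (hd : 0 < d) (k : ℕ) :
    (x : ℚ) / ((d + 64 * k : ℤ) : ℚ) ≤ max 0 ((x : ℚ) / d) ∧
      min 0 ((x : ℚ) / d) ≤ (x : ℚ) / ((d + 64 * k : ℤ) : ℚ) := by
  have hdq : (0 : ℚ) < d := by exact_mod_cast hd
  have hle : (d : ℚ) ≤ ((d + 64 * k : ℤ) : ℚ) := by
    push_cast; linarith [(k.cast_nonneg : (0 : ℚ) ≤ k)]
  rcases le_total (0 : ℚ) x with hx | hx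
  · refine ⟨le_max_of_le_right ?_, min_le_of_left_le (div_nonneg hx (hdq.le.trans hle))⟩
    exact div_le_div_of_nonneg_left hx hdq hle
  · refine ⟨le_max_of_le_left (div_nonpos_of_nonpos_of_nonneg hx (hdq.le.trans hle)), min_le_of_right_le ?_⟩
    have := div_le_div_of_nonneg_left (neg_nonneg.2 hx) hdq hle
    rw [neg_div, neg_div] at this
    linarith

theorem Sol.bounds : ∀ {ws : List Item} {a b : ℚ} {s t : ℤ}, Sol ws a b s t → (∀ w ∈ ws, 0 < w.d) →
    (a ≤ (ws.map fun w => max 0 ((w.wv : ℚ) / w.d)).sum ∧ (ws.map fun w => min 0 ((w.wv : ℚ) / w.d)).sum ≤ a) ∧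
    (b ≤ (ws.map fun w => max 0 ((w.wu : ℚ) / w.d)).sum ∧ (ws.map fun w => min 0 ((w.wu : ℚ) / w.d)).sum ≤ b)
  | [], a, b, s, t, h, _ => by simp [h.1, h.2.1]
  | w :: ws, a, b, s, t, ⟨k, hk⟩, hw => by
    have hd := hw w List.mem_cons_self
    obtain ⟨⟨h1, h2⟩, h3, h4⟩ := Sol.bounds hk fun z hz => hw z (List.mem_cons_of_mem _ hz)
    obtain ⟨p1, p2⟩ := term_bounds w.wv hd k
    obtain ⟨q1, q2⟩ := term_bounds w.wu hd k
    simp only [List.map_cons, List.sum_cons]
    exact ⟨⟨by linarith, by linarith⟩, by linarith, by linarith⟩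

theorem Sol.lin : ∀ {ws : List Item} {a b : ℚ} {s t : ℤ}, Sol ws a b s t →
    ((∀ w ∈ ws, w.l0 ≤ 0) → s ≤ (ws.map fun w => w.l0 * w.lo).sum) ∧
    ((∀ w ∈ ws, 0 ≤ w.l0) → (ws.map fun w => w.l0 * w.lo).sum ≤ s) ∧
    ((∀ w ∈ ws, w.l1 ≤ 0) → t ≤ (ws.map fun w => w.l1 * w.lo).sum) ∧
    ((∀ w ∈ ws, 0 ≤ w.l1) → (ws.map fun w => w.l1 * w.lo).sum ≤ t)
  | [], a, b, s, t, h => by simp [h.2.2.1, h.2.2.2]
  | w :: ws, a, b, s, t, ⟨k, hk⟩ => by
    obtain ⟨h1, h2, h3, h4⟩ := Sol.lin hk
    have hk0 : (0 : ℤ) ≤ k := Int.natCast_nonneg k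
    simp only [List.map_cons, List.sum_cons]
    refine ⟨fun h => ?_, fun h => ?_, fun h => ?_, fun h => ?_⟩
    · have := h1 fun z hz => h z (List.mem_cons_of_mem _ hz)
      nlinarith [mul_nonpos_of_nonpos_of_nonneg (h w List.mem_cons_self) hk0]
    · have := h2 fun z hz => h z (List.mem_cons_of_mem _ hz)
      nlinarith [mul_nonneg (h w List.mem_cons_self) hk0]
    · have := h3 fun z hz => h z (List.mem_cons_of_mem _ hz)
      nlinarith [mul_nonpos_of_nonpos_of_nonneg (h w List.mem_cons_self) hk0]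
    · have := h4 fun z hz => h z (List.mem_cons_of_mem _ hz)
      nlinarith [mul_nonneg (h w List.mem_cons_self) hk0]

theorem quadBad_false {f : Item → ℤ} {t : Frac} {ws : List Item} (hw : ∀ w ∈ ws, 0 < w.d) (ht : 0 < t.den)
    (h1 : t.val ≤ (ws.map fun w => max 0 ((f w : ℚ) / w.d)).sum)
    (h2 : (ws.map fun w => min 0 ((f w : ℚ) / w.d)).sum ≤ t.val) : quadBad f t ws = false := by
  have hp : (0 : ℚ) < (subPos f ws t).den := by exact_mod_cast subPos_den hw ht
  have hn : (0 : ℚ) < (subNeg f ws t).den := by exact_mod_cast subNeg_den hw ht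
  have e1 := subPos_val (f := f) hw ht
  have e2 := subNeg_val (f := f) hw ht
  simp only [quadBad, Bool.or_eq_false_iff, decide_eq_false_iff_not, not_lt]
  constructor
  · by_contra hc
    have : (0 : ℚ) < ((subPos f ws t).num : ℚ) := by exact_mod_cast not_le.1 hc
    have : 0 < (subPos f ws t).val := div_pos this hp
    linarith
  · by_contra hc
    have : ((subNeg f ws t).num : ℚ) < 0 := by exact_mod_cast not_le.1 hc
    have : (subNeg f ws t).val < 0 := div_neg_of_neg_of_pos this hn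
    linarith

theorem linBad_false {f : Item → ℤ} {t : ℤ} {ws : List Item}
    (h1 : (∀ w ∈ ws, f w ≤ 0) → t ≤ (ws.map fun w => f w * w.lo).sum)
    (h2 : (∀ w ∈ ws, 0 ≤ f w) → (ws.map fun w => f w * w.lo).sum ≤ t) : linBad f t ws = false := by
  by_contra hc
  simp only [linBad, Bool.not_eq_false, Bool.or_eq_true, Bool.and_eq_true, decide_eq_true_eq,
    List.all_eq_true] at hc
  rcases hc with ⟨hs, ha⟩ | ⟨hs, ha⟩
  · linarith [h1 ha]
  · linarith [h2 ha]

theorem pick_perm : ∀ {ws : List Item} {w : Item} {rest : List Item}, pick ws = some (w, rest) →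
    (w :: rest).Perm ws
  | [], _, _, h => by simp [pick] at h
  | x :: xs, w, rest, h => by
    simp only [pick] at h
    split at h
    · obtain ⟨rfl, rfl⟩ : x = w ∧ xs = rest := by simpa using h
      exact List.Perm.refl _
    · rename_i u us hu
      have ih := pick_perm hu
      split at h
      · obtain ⟨rfl, rfl⟩ : x = w ∧ xs = rest := by simpa using h
        exact List.Perm.refl _
      · obtain ⟨rfl, rfl⟩ : u = w ∧ x :: us = rest := by simpa using h
        exact (List.Perm.swap x u us).trans (ih.cons x)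

/-- A refuted system has no solution. -/
theorem not_sol_of_deg : ∀ {n : ℕ} {G : Goal} {ws : List Item}, deg n G ws = true → 0 < G.rv.den →
    0 < G.ru.den → (∀ w ∈ ws, 0 < w.d) → ¬ Sol ws G.rv.val G.ru.val G.s0 G.s1
  | 0, _, _, h, _, _, _, _ => by simp [deg] at h
  | n + 1, G, ws, h, hv, hu, hw, hs => by
    obtain ⟨⟨a1, a2⟩, b1, b2⟩ := hs.bounds hw
    obtain ⟨l1, l2, l3, l4⟩ := hs.lin
    have hb : G.bad ws = false := by
      simp only [Goal.bad, quadBad_false hw hv a1 a2, quadBad_false hw hu b1 b2, linBad_false l1 l2,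
        linBad_false l3 l4, Bool.or_self]
    simp only [deg, hb, Bool.false_eq_true, if_false] at h
    split at h
    · exact absurd h (by simp)
    rename_i w rest hp
    rw [Bool.and_eq_true] at h
    have hperm := pick_perm hp
    have hw' : ∀ z ∈ w :: rest, 0 < z.d := fun z hz => hw z (hperm.subset hz)
    have hd := hw' w List.mem_cons_self
    obtain ⟨k, hk⟩ := hs.perm hperm.symm
    match k, hk with
    | 0, hk =>
      refine not_sol_of_deg h.1 (mul_pos hv hd) (mul_pos hu hd)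
        (fun z hz => hw' z (List.mem_cons_of_mem _ hz)) ?_
      simpa [Goal.fix, Frac.val_subDiv hv hd, Frac.val_subDiv hu hd] using hk
    | m + 1, hk =>
      have hincr : w.incr.d = w.d + 64 := by simp only [Item.d, Item.incr]; ring
      refine not_sol_of_deg h.2 hv hu (List.forall_mem_cons.2
        ⟨by rw [hincr]; omega, fun z hz => hw' z (List.mem_cons_of_mem _ hz)⟩) ⟨m, ?_⟩
      rw [hincr, show w.d + 64 + 64 * (m : ℤ) = w.d + 64 * ((m + 1 : ℕ) : ℤ) from by push_cast; ring]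
      simp only [Item.incr]
      rw [show w.lo + 1 + (m : ℤ) = w.lo + ((m + 1 : ℕ) : ℤ) from by push_cast; ring]
      exact hk

end Cfsg.Agent.H53.U34.Check
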