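import Cfsg.Agent.H53.U34.Check.Deg
import Mathlib.Algebra.Order.BigOperators.Ring.Finset
import Mathlib.Data.Fintype.BigOperators
import Mathlib.Algebra.BigOperators.Fin

/-!
# Soundness of the enumeration of decompositions
-/

set_option autoImplicit false

namespace Cfsg.Agent.H53.U34.Check

/-- Cauchy's inequality for lists. -/
theorem list_cauchy {α : Type*} (l : List α) (p q : α → ℤ) :
    (l.map fun x => p x * q x).sum * (l.map fun x => p x * q x).sum ≤
      (l.map fun x => p x * p x).sum * (l.map fun x => q x * q x).sum := by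
  have h := Finset.sum_mul_sq_le_sq_mul_sq (Finset.univ : Finset (Fin l.length))
    (fun i => p (l.get i)) (fun i => q (l.get i))
  have e : ∀ g : α → ℤ, (l.map g).sum = ∑ i : Fin l.length, g (l.get i) := fun g => by
    rw [← List.sum_ofFn]
    congr 1
    apply List.ext_getElem <;> simp
  rw [e, e, e]
  simpa [sq] using h

theorem list_sq_nonneg {α : Type*} (l : List α) (p : α → ℤ) : 0 ≤ (l.map fun x => p x * p x).sum :=
  List.sum_nonneg (by simp only [List.mem_map]; rintro _ ⟨x, -, rfl⟩; exact mul_self_nonneg _)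

theorem sig_four (r : Row) : r.sig.sig.sig.sig = r := rfl

/-- Sums over an orbit are invariant under `sig`. -/
theorem sum_orbit_sig (r : Row) (F : Row → ℤ) :
    (r.orbit.map fun s => F s.sig).sum = (r.orbit.map F).sum := by
  unfold Row.orbit
  split_ifs with h1 h2
  · simp [h1]
  · simp only [List.map_cons, List.map_nil, List.sum_cons, List.sum_nil, h2]
    ring
  · simp only [List.map_cons, List.map_nil, List.sum_cons, List.sum_nil, sig_four]
    ring

theorem sum_flatMap_sig : ∀ (L : List Row) (F : Row → ℤ),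
    ((L.flatMap Row.orbit).map fun s => F s.sig).sum = ((L.flatMap Row.orbit).map F).sum
  | [], _ => rfl
  | r :: L, F => by
    simp only [List.flatMap_cons, List.map_append, List.sum_append, sum_orbit_sig, sum_flatMap_sig L F]

theorem sum_map_add (l : List Row) (F G : Row → ℤ) :
    (l.map fun s => F s + G s).sum = (l.map F).sum + (l.map G).sum := List.sum_map_add

theorem sum_map_sub (l : List Row) (F G : Row → ℤ) :
    (l.map fun s => F s - G s).sum = (l.map F).sum - (l.map G).sum := by
  induction l with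
  | nil => rfl
  | cons a t ih => simp only [List.map_cons, List.sum_cons, ih]; ring

/-- The Gram data of a union of orbits pass the test. -/
theorem ok_wt (L : List Row) : (wt (L.flatMap Row.orbit)).ok = true := by
  set l := L.flatMap Row.orbit
  have hs : ∀ F : Row → ℤ, (l.map fun s => F s.sig).sum = (l.map F).sum := sum_flatMap_sig L
  -- images of the coordinates `c2`, `c4`, `c3` from `c1`
  have a2 := hs fun s => s.c0 * s.c1
  have a4 := hs fun s => s.c0 * s.sig.c1
  have a3 := hs fun s => s.c0 * s.sig.sig.c1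
  have i2 := hs fun s => s.c1 * s.v
  have i4 := hs fun s => s.sig.c1 * s.v
  have i3 := hs fun s => s.sig.sig.c1 * s.v
  have f2 := hs fun s => s.c1 * s.c1
  have f4 := hs fun s => s.sig.c1 * s.sig.c1
  have f3 := hs fun s => s.sig.sig.c1 * s.sig.sig.c1
  have g24 := hs fun s => s.c1 * s.c2
  have g43 := hs fun s => s.sig.c1 * s.sig.c2
  have g31 := hs fun s => s.sig.sig.c1 * s.sig.sig.c2
  have h23 := hs fun s => s.c1 * s.c4
  simp only [Row.sig] at a2 a3 a4 i2 i3 i4 f2 f3 f4 g24 g43 g31 h23
  have C := list_cauchy l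
  have N := list_sq_nonneg l
  have e1 := C (fun s => s.c0) (fun s => s.c1)
  have e2 := C (fun s => s.c0) (fun s => s.v)
  have e3 := C (fun s => s.c1) (fun s => s.v)
  have e4 := C (fun s => s.c1) (fun s => s.c2)
  have e5 := C (fun s => s.c1) (fun s => s.c4)
  have e6 := C (fun s => s.c0) (fun s => s.c1 + s.c2 + s.c3 + s.c4)
  have e7 := C (fun s => s.c1 + s.c2 + s.c3 + s.c4) (fun s => s.v)
  have n1 := N fun s => s.c0
  have n2 := N fun s => s.c1
  have n3 := N fun s => s.v
  have n4 := N fun s => s.c1 + s.c2 + s.c3 + s.c4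
  have n5 := N fun s => s.c1 + s.c4 - (s.c2 + s.c3)
  have n6 := N fun s => s.c1 - s.c4
  simp only [mul_add, add_mul, mul_sub, sub_mul, sum_map_add, sum_map_sub] at e6 e7 n4 n5 n6
  simp only [mul_comm] at e6 e7 n4 n5 n6 a2 a3 a4 i2 i3 i4 f2 f3 f4 g24 g43 g31 h23 e1 e2 e3 e4 e5
  rw [a2] at a4
  rw [a4] at a3
  rw [i2] at i4
  rw [i4] at i3
  rw [f2] at f4
  rw [f4] at f3
  rw [g24] at g43
  rw [g43] at g31
  simp only [a2, a3, a4, i2, i3, i4, f2, f3, f4, g24, g43, g31, h23] at e4 e5 e6 e7 n4 n5 n6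
  simp only [Wt.ok, wt, Bool.and_eq_true, mul_comm]
  refine ⟨⟨⟨⟨⟨⟨⟨⟨⟨⟨⟨⟨?_, ?_⟩, ?_⟩, ?_⟩, ?_⟩, ?_⟩, ?_⟩, ?_⟩, ?_⟩, ?_⟩, ?_⟩, ?_⟩, ?_⟩
  all_goals apply decide_eq_true
  all_goals linarith

theorem wt_append (l m : List Row) : (wt (l ++ m)) =
    ⟨(wt l).a + (wt m).a, (wt l).b + (wt m).b, (wt l).e + (wt m).e, (wt l).f + (wt m).f, (wt l).g + (wt m).g,
      (wt l).h + (wt m).h, (wt l).i + (wt m).i, (wt l).v + (wt m).v⟩ := by
  simp [wt]

theorem wt_sub_append (l m : List Row) : (wt (l ++ m)).sub (wt l) = wt m := by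
  rw [wt_append]; simp [Wt.sub]

theorem wt_perm {l m : List Row} (h : l.Perm m) : wt l = wt m := by
  simp [wt, (h.map _).sum_eq]

theorem mem_branches {key : Row → Bool} : ∀ {al : List Row} {p : Row → Prop}, (∀ x, p x → x ∈ al) →
    (∃ x, p x ∧ key x = true) → ∃ q ∈ branches key al, p q.1 ∧ ∀ x, p x → x ∈ q.2
  | [], p, hal, ⟨x, hx, _⟩ => absurd (hal x hx) List.not_mem_nil
  | r :: rs, p, hal, ⟨x, hx, hk⟩ => by
    have step : (key r = true → p r) → p r → key r = true → ∃ q ∈ branches key (r :: rs), p q.1 ∧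
        ∀ x, p x → x ∈ q.2 := fun _ hr hkr => ⟨(r, r :: rs), by simp [branches, hkr], hr, hal⟩
    by_cases hkr : key r = true
    · by_cases hr : p r
      · exact step (fun _ => hr) hr hkr
      · obtain ⟨q, hq, h1, h2⟩ := mem_branches (al := rs) (p := p)
          (fun y hy => (List.mem_cons.1 (hal y hy)).resolve_left fun e => hr (e ▸ hy)) ⟨x, hx, hk⟩
        exact ⟨q, by simp [branches, hkr, hq], h1, h2⟩
    · have hxr : x ≠ r := fun e => hkr (e ▸ hk)
      obtain ⟨q, hq, h1, h2⟩ := mem_branches (al := rs) (p := fun y => p y ∧ y ≠ r)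
        (fun y hy => (List.mem_cons.1 (hal y hy.1)).resolve_left hy.2) ⟨x, ⟨hx, hxr⟩, hk⟩
      refine ⟨(q.1, r :: q.2), ?_, h1.1, fun y hy => ?_⟩
      · simp only [branches, hkr, Bool.false_eq_true, if_false, List.mem_map]
        exact ⟨q, hq, rfl⟩
      · rcases eq_or_ne y r with e | e
        · exact e ▸ List.mem_cons_self
        · exact List.mem_cons_of_mem _ (h2 y ⟨hy, e⟩)

theorem branches_subset {key : Row → Bool} : ∀ {al : List Row} {q : Row × List Row}, q ∈ branches key al →
    ∀ r ∈ q.2, r ∈ al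
  | [], q, h => by simp [branches] at h
  | a :: rs, q, h => by
    unfold branches at h
    split_ifs at h with hk
    · rcases List.mem_cons.1 h with rfl | h
      · exact fun r hr => hr
      · exact fun r hr => List.mem_cons_of_mem _ (branches_subset h r hr)
    · obtain ⟨p, hp, rfl⟩ := List.mem_map.1 h
      intro r hr
      rcases List.mem_cons.1 hr with rfl | hr
      · exact List.mem_cons_self
      · exact List.mem_cons_of_mem _ (branches_subset hp r hr)

theorem exists_diag_ne_zero : ∀ {L : List Row} (F : Row → ℤ), ((L.flatMap Row.orbit).map F).sum ≠ 0 →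
    ∃ x ∈ L, (x.orbit.map F).sum ≠ 0
  | [], F, h => by simp at h
  | r :: L, F, h => by
    by_cases hr : (r.orbit.map F).sum = 0
    · simp only [List.flatMap_cons, List.map_append, List.sum_append, hr, zero_add] at h
      obtain ⟨x, hx, h'⟩ := exists_diag_ne_zero F h
      exact ⟨x, List.mem_cons_of_mem _ hx, h'⟩
    · exact ⟨r, List.mem_cons_self, hr⟩

/-- Soundness of `cover`, for labelled elements. -/
theorem cover_sound {α : Type*} (g : α → Row) (leaf : List Row → Bool) : ∀ {n : ℕ} {al : List Row} {M : Wt}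
    {ch : List Row}, cover leaf n al M ch = true →
    (∀ r ∈ al, 0 < (wt r.orbit).a + (wt r.orbit).f + (wt r.orbit).v) →
    ∀ {C A : List α}, C.map g = ch → (∀ x ∈ A, g x ∈ al) → wt ((A.map g).flatMap Row.orbit) = M →
    ∃ B : List α, B.Perm (C ++ A) ∧ leaf (B.map g) = true
  | 0, _, _, _, h, _, _, _, _, _, _ => by simp [cover] at h
  | n + 1, al, M, ch, h, hpos, C, A, hC, hA, hM => by
    have hok : M.ok = true := hM ▸ ok_wt _
    simp only [cover, hok, Bool.not_true, Bool.false_eq_true, if_false] at h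
    split_ifs at h with hz
    · match A, hA, hM with
      | [], _, _ => exact ⟨C, by simp, hC ▸ h⟩
      | x :: A, hA, hM =>
        exfalso
        have hp := hpos _ (hA x List.mem_cons_self)
        rw [List.map_cons, List.flatMap_cons, wt_append] at hM
        obtain ⟨ha, hf, hv⟩ := hz
        rw [← hM] at ha hf hv
        have := list_sq_nonneg ((A.map g).flatMap Row.orbit) fun s => s.c0
        have := list_sq_nonneg ((A.map g).flatMap Row.orbit) fun s => s.c1
        have := list_sq_nonneg ((A.map g).flatMap Row.orbit) fun s => s.v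
        simp only [wt] at ha hf hv hp
        omega
    · rw [List.all_eq_true] at h
      have hk : ∃ r, (∃ x ∈ A, g x = r) ∧ key M r = true := by
        have key_of : ∀ F : Row → ℤ, (((A.map g).flatMap Row.orbit).map F).sum ≠ 0 →
            ∃ x ∈ A, ((g x).orbit.map F).sum ≠ 0 := fun F hF => by
          obtain ⟨r, hr, h'⟩ := exists_diag_ne_zero F hF
          obtain ⟨x, hx, rfl⟩ := List.mem_map.1 hr
          exact ⟨x, hx, h'⟩
        subst hM
        simp only [key]
        by_cases ha : (wt ((A.map g).flatMap Row.orbit)).a = 0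
        · by_cases hf : (wt ((A.map g).flatMap Row.orbit)).f = 0
          · obtain ⟨x, hx, h'⟩ := key_of _ (fun hv => hz ⟨ha, hf, hv⟩)
            exact ⟨g x, ⟨x, hx, rfl⟩, by simp only [ha, hf, ne_eq, not_true, if_false, decide_eq_true_eq]; exact h'⟩
          · obtain ⟨x, hx, h'⟩ := key_of _ hf
            exact ⟨g x, ⟨x, hx, rfl⟩, by simp only [ha, hf, ne_eq, not_true, not_false_iff, if_false, if_true, decide_eq_true_eq]; exact h'⟩
        · obtain ⟨x, hx, h'⟩ := key_of _ ha
          exact ⟨g x, ⟨x, hx, rfl⟩, by simp only [ha, ne_eq, not_false_iff, if_true, decide_eq_true_eq]; exact h'⟩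
      obtain ⟨⟨k, rest⟩, hq, ⟨x, hx, hxk⟩, hrest⟩ := mem_branches (p := fun r => ∃ x ∈ A, g x = r)
        (fun r ⟨x, hx, e⟩ => e ▸ hA x hx) hk
      obtain ⟨A₁, A₂, rfl⟩ := List.append_of_mem hx
      have hperm : (x :: (A₁ ++ A₂)).Perm (A₁ ++ x :: A₂) := List.perm_middle.symm
      have hsub : ∀ r ∈ rest, r ∈ al := by
        intro r hr
        exact branches_subset hq r hr
      obtain ⟨B, hB, hl⟩ := cover_sound g leaf (h _ hq) (fun r hr => hpos r (hsub r hr))
        (C := x :: C) (A := A₁ ++ A₂) (by simp [hxk, hC])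
        (fun y hy => hrest _ ⟨y, hperm.subset (List.mem_cons_of_mem _ hy), rfl⟩) (by
          rw [← hM, ← wt_perm ((hperm.map g).flatMap_right _), List.map_cons, List.flatMap_cons, ← hxk,
            wt_sub_append])
      exact ⟨B, hB.trans ((List.perm_middle.symm).trans (hperm.append_left C)), hl⟩

end Cfsg.Agent.H53.U34.Check
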