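import Cfsg.Agent.H53.U34.Check.Enum
import Cfsg.Agent.H53.U34.Defs
import Mathlib.Data.Finset.Basic
import Mathlib.Data.Multiset.MapFold

/-!
# The column data are contradictory, given the searches
-/

set_option autoImplicit false

namespace Cfsg.Agent.H53.U34.Check

/-- The signed row of a representative. -/
def sval (p : Row × Bool) : Row := if p.2 then p.1 else p.1.neg

theorem signed_sound : ∀ {A : List (Row × Bool)}, (∀ p ∈ A, ∀ q ∈ A, q.1.neg ≠ p.1) → ∀ {rs : List Row},
    (A.map Prod.fst).Perm rs → ∃ l ∈ signed rs, l.Perm (A.map sval)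
  | A, hne, [], h => by
    have : A = [] := List.map_eq_nil_iff.1 (List.perm_nil.1 h)
    subst this
    exact ⟨[], by simp [signed], List.Perm.refl _⟩
  | A, hne, r :: rs, h => by
    by_cases hp : (r, true) ∈ A
    · obtain ⟨A₁, A₂, rfl⟩ := List.append_of_mem hp
      have hperm : ((r, true) :: (A₁ ++ A₂)).Perm (A₁ ++ (r, true) :: A₂) := List.perm_middle.symm
      have h' := (hperm.map Prod.fst).trans h
      rw [List.map_cons] at h'
      obtain ⟨l, hl, hlp⟩ := signed_sound (A := A₁ ++ A₂)
        (fun p hp q hq => hne p (hperm.subset (List.mem_cons_of_mem _ hp)) q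
          (hperm.subset (List.mem_cons_of_mem _ hq))) h'.cons_inv
      refine ⟨r :: l, ?_, ?_⟩
      · simp only [signed, List.mem_flatMap]
        exact ⟨l, hl, by split_ifs <;> simp⟩
      · exact (List.Perm.cons r hlp).trans (by simpa [sval] using hperm.map sval)
    · have hr : r ∈ A.map Prod.fst := h.symm.subset List.mem_cons_self
      obtain ⟨⟨r', b⟩, hx, rfl⟩ := List.mem_map.1 hr
      have hb : b = false := by cases b with | false => rfl | true => exact absurd hx hp
      subst hb
      obtain ⟨A₁, A₂, rfl⟩ := List.append_of_mem hx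
      have hperm : ((r', false) :: (A₁ ++ A₂)).Perm (A₁ ++ (r', false) :: A₂) := List.perm_middle.symm
      have h' := (hperm.map Prod.fst).trans h
      rw [List.map_cons] at h'
      obtain ⟨l, hl, hlp⟩ := signed_sound (A := A₁ ++ A₂)
        (fun p hp q hq => hne p (hperm.subset (List.mem_cons_of_mem _ hp)) q
          (hperm.subset (List.mem_cons_of_mem _ hq))) h'.cons_inv
      have hnot : r' ∉ l := fun hm => by
        obtain ⟨⟨s, t⟩, hs, he⟩ := List.mem_map.1 (hlp.subset hm)
        have hsA := hperm.subset (List.mem_cons_of_mem _ hs)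
        cases t with
        | true => exact hp ((show s = r' from by simpa [sval] using he) ▸ hsA)
        | false => exact hne _ hx _ hsA (by simpa [sval] using he)
      refine ⟨r'.neg :: l, ?_, ?_⟩
      · simp only [signed, List.mem_flatMap]
        exact ⟨l, hl, by simp [hnot]⟩
      · exact (List.Perm.cons _ hlp).trans (by simpa [sval] using hperm.map sval)

theorem sig_injective : Function.Injective Row.sig := fun r s h => by
  simpa [sig_four] using congrArg (fun x : Row => x.sig.sig.sig) h

theorem orbit_nodup (r : Row) : r.orbit.Nodup := by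
  unfold Row.orbit
  have hi := sig_injective
  split_ifs with h1 h2
  · simp
  · simp [Ne.symm h1]
  · have h3 : r.sig.sig.sig ≠ r := fun e => h1 (by simpa [sig_four] using (congrArg Row.sig e).symm)
    simp [Ne.symm h1, Ne.symm h2, Ne.symm h3, hi.eq_iff]

theorem orbit_perm_of_mem {r s : Row} (h : s ∈ r.orbit) : s.orbit.Perm r.orbit := by
  have step : ∀ t : Row, t.sig.orbit.Perm t.orbit := fun t => by
    by_cases h1 : t.sig = t
    · rw [h1]
    · have e1 : t.sig.sig ≠ t.sig := fun e => h1 (sig_injective e)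
      by_cases h2 : t.sig.sig = t
      · have : t.sig.sig.sig = t.sig := congrArg Row.sig h2
        simp only [Row.orbit, h1, h2, if_false, if_true, this]
        simpa [Ne.symm h1] using List.Perm.swap t t.sig []
      · have e2 : t.sig.sig.sig ≠ t.sig := fun e => h2 (sig_injective e)
        simp only [Row.orbit, h1, h2, e1, e2, if_false, sig_four]
        exact List.perm_append_comm (l₁ := [t.sig, t.sig.sig, t.sig.sig.sig]) (l₂ := [t])
  have h4 : s = r ∨ s = r.sig ∨ s = r.sig.sig ∨ s = r.sig.sig.sig := by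
    unfold Row.orbit at h
    split_ifs at h <;> simp only [List.mem_cons, List.not_mem_nil, or_false] at h <;> tauto
  rcases h4 with rfl | rfl | rfl | rfl
  · exact List.Perm.refl _
  · exact step r
  · exact (step _).trans (step r)
  · exact ((step _).trans (step _)).trans (step r)

theorem sig_neg (r : Row) : r.neg.sig = r.sig.neg := rfl

theorem neg_injective : Function.Injective Row.neg := fun r s h => by
  cases r; cases s; simpa [Row.neg] using h

theorem wt_orbit_neg (r : Row) : wt r.orbit = wt r.neg.orbit := by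
  have h : r.neg.orbit = r.orbit.map Row.neg := by
    unfold Row.orbit
    simp only [sig_neg, neg_injective.eq_iff]
    split_ifs <;> rfl
  rw [h]
  simp only [wt, List.map_map, Function.comp_def, Row.neg, neg_mul_neg]

/-- The twist on labelled rows. -/
def sigE (p : Row × ℤ) : Row × ℤ := (p.1.sig, p.2)

/-- The labelled orbit. -/
def orbE (p : Row × ℤ) : List (Row × ℤ) := p.1.orbit.map fun s => (s, p.2)

theorem orbE_invariant (p : Row × ℤ) :
    ((orbE p : Multiset (Row × ℤ))).map sigE = (orbE p : Multiset (Row × ℤ)) := by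
  rw [Multiset.map_coe, Multiset.coe_eq_coe, orbE, List.map_map]
  show (p.1.orbit.map ((fun s => (s, p.2)) ∘ Row.sig)).Perm _
  rw [← List.map_map]
  refine List.Perm.map _ ?_
  rcases p with ⟨r, e⟩
  show (r.orbit.map Row.sig).Perm r.orbit
  unfold Row.orbit
  split_ifs with h1 h2
  · simp [h1]
  · simpa [h2] using List.Perm.swap r r.sig []
  · simpa [sig_four] using List.perm_append_comm (l₁ := [r.sig, r.sig.sig, r.sig.sig.sig]) (l₂ := [r])

theorem decompose : ∀ (M : Multiset (Row × ℤ)), M.map sigE = M →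
    ∃ R : List (Row × ℤ), M = (R.flatMap orbE : List (Row × ℤ)) := by
  intro M
  induction M using Multiset.strongInductionOn with
  | ih M ih =>
    intro hM
    rcases M.empty_or_exists_mem with rfl | ⟨p, hp⟩
    · exact ⟨[], rfl⟩
    have hstep : ∀ x ∈ M, sigE x ∈ M := fun x hx => hM ▸ Multiset.mem_map_of_mem sigE hx
    have hnd : (orbE p).Nodup := (orbit_nodup p.1).map fun a b h => congrArg Prod.fst h
    have hsub : (orbE p : Multiset (Row × ℤ)) ≤ M := by
      rw [Multiset.le_iff_subset (Multiset.coe_nodup.2 hnd)]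
      intro x hx
      rw [Multiset.mem_coe, orbE, List.mem_map] at hx
      obtain ⟨s, hs, rfl⟩ := hx
      obtain ⟨r, e⟩ := p
      have h4 : s = r ∨ s = r.sig ∨ s = r.sig.sig ∨ s = r.sig.sig.sig := by
        unfold Row.orbit at hs
        split_ifs at hs <;> simp only [List.mem_cons, List.not_mem_nil, or_false] at hs <;> tauto
      rcases h4 with rfl | rfl | rfl | rfl
      · exact hp
      · exact hstep _ hp
      · exact hstep _ (hstep _ hp)
      · exact hstep _ (hstep _ (hstep _ hp))
    have hne : (orbE p : Multiset (Row × ℤ)) ≠ 0 := by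
      unfold orbE Row.orbit
      split_ifs <;> simp
    have hsigE : Function.Injective sigE := fun a b h =>
      Prod.ext (sig_injective (congrArg Prod.fst h)) (congrArg Prod.snd h :)
    have hrest : (M - (orbE p : Multiset (Row × ℤ))).map sigE = M - (orbE p : Multiset (Row × ℤ)) := by
      conv_rhs => rw [← hM, ← orbE_invariant p]
      ext x
      by_cases hx : ∃ y, sigE y = x
      · obtain ⟨y, rfl⟩ := hx
        simp only [Multiset.count_map_eq_count' sigE _ hsigE, Multiset.count_sub]
      · have h0 : ∀ N : Multiset (Row × ℤ), (N.map sigE).count x = 0 := fun N =>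
          Multiset.count_eq_zero.2 fun h => by
            obtain ⟨y, -, e⟩ := Multiset.mem_map.1 h; exact hx ⟨y, e⟩
        simp [h0, Multiset.count_sub]
    have hlt : M - (orbE p : Multiset (Row × ℤ)) < M := by
      refine lt_of_le_of_ne tsub_le_self fun e => hne ?_
      have := tsub_add_cancel_of_le hsub
      rw [e] at this
      exact add_eq_left.1 this
    obtain ⟨R, hR⟩ := ih _ hlt hrest
    exact ⟨p :: R, by
      rw [List.flatMap_cons, ← Multiset.coe_add, ← hR, add_comm]
      exact (tsub_add_cancel_of_le hsub).symm⟩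

theorem mem_orbit_self (r : Row) : r ∈ r.orbit := by unfold Row.orbit; split_ifs <;> simp

theorem inv_of_mem_orbit {r s : Row} (h : s ∈ r.orbit) : s.q = r.q ∧ s.v = r.v ∧ s.off = r.off := by
  have h1 : ∀ t : Row, t.sig.q = t.q ∧ t.sig.off = t.off := fun t => by
    constructor <;> simp only [Row.off, Row.q, Row.sig] <;> ring
  unfold Row.orbit at h
  split_ifs at h <;> simp only [List.mem_cons, List.not_mem_nil, or_false] at h
  all_goals (rcases h with rfl | rfl | rfl | rfl) <;> simp [h1, Row.sig] <;> simp [Row.off, Row.q] <;> omega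

theorem d_ofRow_pos (r : Row) : 0 < (Item.ofRow r).d := by
  show 0 < 64 * r.lo + r.off
  have : (-r.off) / 64 + 1 ≤ r.lo := le_max_of_le_right (le_max_right _ _)
  omega

/-- The two rational equations' terms. -/
def tv (p : Row × ℤ) : ℚ := ((p.1.v * (p.1.q * p.1.q) : ℤ) : ℚ) / ((64 * p.2 + p.1.off : ℤ) : ℚ)

/-- The second rational equation's terms. -/
def tu (p : Row × ℤ) : ℚ :=
  (((p.1.c0 - p.1.c1) * (p.1.q * p.1.q) : ℤ) : ℚ) / ((64 * p.2 + p.1.off : ℤ) : ℚ)

theorem sum_map_const_mul {α : Type*} (l : List α) (f : α → ℤ) (x : ℤ) :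
    (l.map fun s => f s * x).sum = (l.map f).sum * x := List.sum_map_mul_right ..

theorem sol_of_rows : ∀ (R : List (Row × ℤ)), (∀ p ∈ R, p.1.lo ≤ p.2) →
    Sol (R.map fun p => Item.ofRow p.1) ((R.flatMap orbE).map tv).sum ((R.flatMap orbE).map tu).sum
      ((R.flatMap orbE).map fun p => p.1.c0 * p.2).sum ((R.flatMap orbE).map fun p => p.1.c1 * p.2).sum
  | [], _ => by simp [Sol]
  | (r, E) :: R, h => by
    refine ⟨(E - r.lo).toNat, ?_⟩
    have hle : r.lo ≤ E := h (r, E) List.mem_cons_self
    have hk : (((E - r.lo).toNat : ℕ) : ℤ) = E - r.lo := Int.toNat_of_nonneg (by omega)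
    have hd : (Item.ofRow r).d + 64 * ((E - r.lo).toNat : ℤ) = 64 * E + r.off := by
      rw [hk]; show 64 * r.lo + r.off + _ = _; ring
    have e : ∀ (f : Row → ℤ), (((orbE (r, E)).map fun p => (((f p.1) * (p.1.q * p.1.q) : ℤ) : ℚ) /
        ((64 * p.2 + p.1.off : ℤ) : ℚ)).sum) =
        (((r.orbit.map f).sum * (r.q * r.q) : ℤ) : ℚ) / ((64 * E + r.off : ℤ) : ℚ) := fun f => by
      rw [orbE, List.map_map, ← sum_map_const_mul]
      generalize hl : r.orbit = l
      have hl' : ∀ s ∈ l, s.q = r.q ∧ s.v = r.v ∧ s.off = r.off := fun s hs => inv_of_mem_orbit (hl ▸ hs)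
      clear hl
      induction l with
      | nil => simp
      | cons a t ih =>
        obtain ⟨h1, -, h3⟩ := hl' a List.mem_cons_self
        simp only [List.map_cons, List.sum_cons, Function.comp_apply, h1, h3,
          ih fun s hs => hl' s (List.mem_cons_of_mem _ hs)]
        push_cast
        ring
    have eE : ∀ (f : Row → ℤ), ((orbE (r, E)).map fun p => f p.1 * p.2).sum =
        (r.orbit.map f).sum * (r.lo + ((E - r.lo).toNat : ℤ)) := fun f => by
      rw [hk, orbE, List.map_map, ← sum_map_const_mul]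
      congr 1
      exact List.map_congr_left fun s _ => by simp
    simp only [List.map_cons, List.flatMap_cons, List.map_append, List.sum_append, hd]
    have ev : ((orbE (r, E)).map tv).sum = _ := e Row.v
    have eu : ((orbE (r, E)).map tu).sum = _ := e fun s => s.c0 - s.c1
    rw [ev, eu, eE Row.c0, eE Row.c1]
    simp only [Item.ofRow, add_sub_cancel_left]
    exact sol_of_rows R fun p hp => h p (List.mem_cons_of_mem _ hp)

/-- The finite checks. -/
structure Checks : Prop where
  search : search = true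
  universe_covered : ∀ c0 c1 c2 c3 c4 v : ℤ, c0 * c0 ≤ 4 → c1 * c1 ≤ 5 → c2 * c2 ≤ 5 → c3 * c3 ≤ 5 → c4 * c4 ≤ 5 →
    v * v ≤ 15 → (⟨c0, c1, c2, c3, c4, v⟩ : Row) ≠ ⟨0, 0, 0, 0, 0, 0⟩ → covered ⟨c0, c1, c2, c3, c4, v⟩ = true

theorem cands_facts : (∀ r ∈ cands, ∀ s ∈ cands, s.neg ≠ r) ∧
    ∀ r ∈ cands, 0 < (wt r.orbit).a + (wt r.orbit).f + (wt r.orbit).v := by decide

theorem list_single_le {α : Type*} (l : List α) (p : α → ℤ) {x : α} (hx : x ∈ l) :
    p x * p x ≤ (l.map fun y => p y * p y).sum := by
  obtain ⟨l₁, l₂, rfl⟩ := List.append_of_mem hx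
  have := list_sq_nonneg l₁ p
  have := list_sq_nonneg l₂ p
  simp only [List.map_append, List.map_cons, List.sum_append, List.sum_cons]
  linarith

/-- The column data are contradictory. -/
theorem false_of_rows (hc : Checks) {X : Type*} [Fintype X] (D : Rows X) : False := by
  classical
  set row : X → Row := fun x => ⟨D.c x 0, D.c x 1, D.c x 2, D.c x 3, D.c x 4, D.v x⟩ with hrow
  set key : X → Row × ℤ := fun x => (row x, D.E x) with hkey
  set z : Row := ⟨0, 0, 0, 0, 0, 0⟩
  set M : Multiset (Row × ℤ) := ((Finset.univ : Finset X).val.map key).filter fun p => p.1 ≠ z with hMdef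
  have hgal : ∀ x, key (D.gal x) = sigE (key x) := fun x => by
    simp only [hkey, hrow, sigE, Row.sig, D.gal_c, D.gal_v, D.gal_E]
    rfl
  have hM : M.map sigE = M := by
    have hu : ((Finset.univ : Finset X).val.map key).map sigE = (Finset.univ : Finset X).val.map key := by
      rw [Multiset.map_map, show sigE ∘ key = key ∘ D.gal from funext fun x => (hgal x).symm, ← Multiset.map_map]
      congr 1
      have h1 := congrArg Finset.val (Finset.map_univ_equiv D.gal)
      rwa [Finset.map_val] at h1
    have hz : ∀ p : Row × ℤ, (sigE p).1 ≠ z ↔ p.1 ≠ z := fun p => not_congr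
      ⟨fun h => sig_injective (h.trans (rfl : z = z.sig)), fun h => by simp [sigE, h]; rfl⟩
    rw [hMdef]
    conv_rhs => rw [← hu, Multiset.filter_map]
    exact congrArg _ (Multiset.filter_congr fun p _ => (hz p).symm)
  obtain ⟨R, hR⟩ := decompose M hM
  have total : ∀ {β : Type} [AddCommMonoid β] (F : Row × ℤ → β), (∀ e, F (z, e) = 0) →
      ((R.flatMap orbE).map F).sum = ∑ x, F (key x) := fun {β} _ F hF => by
    rw [← Multiset.sum_coe, ← Multiset.map_coe, ← hR, hMdef, Finset.sum_eq_multiset_sum]
    have hmm : ∀ S : Multiset (Row × ℤ), ((S.filter fun p => p.1 ≠ z).map F).sum = (S.map F).sum := fun S => by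
      induction S using Multiset.induction_on with
      | empty => simp
      | cons a S ih =>
        by_cases ha : a.1 = z
        · rw [Multiset.filter_cons_of_neg _ (by simpa using ha), ih, Multiset.map_cons, Multiset.sum_cons,
            show F a = 0 from (congrArg F (Prod.ext ha rfl : a = (z, a.2))).trans (hF _), zero_add]
        · rw [Multiset.filter_cons_of_pos _ (by simpa using ha)]
          simp [ih]
    rw [hmm, Multiset.map_map]
    rfl
  have horb : ∀ L : List (Row × ℤ), (L.flatMap orbE).map Prod.fst = (L.map Prod.fst).flatMap Row.orbit := by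
    intro L
    induction L with
    | nil => rfl
    | cons a L ih => simp [ih, orbE, Function.comp_def]
  have hwt : wt ((R.map Prod.fst).flatMap Row.orbit) = target := by
    have hF : ∀ f g : Row → ℤ, f z = 0 →
        (((R.flatMap orbE).map Prod.fst).map fun r => f r * g r).sum = ∑ x, f (row x) * g (row x) :=
      fun f g h0 => by
        rw [List.map_map]
        exact total (fun p => f p.1 * g p.1) fun e => by simp [h0]
    rw [← horb]
    simp only [wt, target]
    rw [hF _ _ rfl, hF _ _ rfl, hF _ _ rfl, hF _ _ rfl, hF _ _ rfl, hF _ _ rfl, hF _ _ rfl, hF _ _ rfl]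
    simp only [hrow, D.gram_cc, D.gram_cv, D.gram_vv]
    simp
  have hrep : ∀ p ∈ R, p.1 ≠ z ∧ ∃ x, key x = p := fun p hp => by
    have hpM : p ∈ M := by
      rw [hR, Multiset.mem_coe, List.mem_flatMap]
      exact ⟨p, hp, by
        rw [orbE, List.mem_map]
        exact ⟨p.1, mem_orbit_self _, rfl⟩⟩
    obtain ⟨h1, h2⟩ := Multiset.mem_filter.1 hpM
    obtain ⟨x, -, e⟩ := Multiset.mem_map.1 h1
    exact ⟨h2, x, e⟩
  -- replace each representative by one in `cands`, up to sign
  have hcand : ∀ p ∈ R, ∃ q : (Row × Bool) × ℤ, q.1.1 ∈ cands ∧ q.2 = p.2 ∧ sval q.1 ∈ p.1.orbit := by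
    intro p hp
    obtain ⟨R₁, R₂, hsplit⟩ := List.append_of_mem hp
    have hperm : (p :: (R₁ ++ R₂)).Perm R := hsplit ▸ List.perm_middle.symm
    have hok : (target.sub (wt p.1.orbit)).ok = true := by
      rw [← hwt, ← wt_perm ((hperm.map Prod.fst).flatMap_right _), List.map_cons, List.flatMap_cons, wt_sub_append]
      exact ok_wt _
    set l := (R.map Prod.fst).flatMap Row.orbit with hl
    have hmem : ∀ s ∈ p.1.orbit, s ∈ l := fun s hs =>
      List.mem_flatMap.2 ⟨p.1, List.mem_map.2 ⟨p, hp, rfl⟩, hs⟩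
    have hlsig : ∀ s ∈ l, s.sig ∈ l := fun s hs => by
      obtain ⟨t, ht, hst⟩ := List.mem_flatMap.1 hs
      refine List.mem_flatMap.2 ⟨t, ht, (orbit_perm_of_mem hst).subset ?_⟩
      unfold Row.orbit
      split_ifs with h1 h2 <;> simp [h1]
    have hp1 := hmem _ (mem_orbit_self _)
    have hc1 : ∀ s ∈ l, s.c1 * s.c1 ≤ 5 := fun s hs =>
      (list_single_le l Row.c1 hs).trans (le_of_eq (congrArg Wt.f hwt))
    obtain ⟨r, e⟩ := p
    have hb := hc.universe_covered r.c0 r.c1 r.c2 r.c3 r.c4 r.v
      ((list_single_le l Row.c0 hp1).trans (le_of_eq (congrArg Wt.a hwt))) (hc1 _ hp1)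
      (hc1 _ (hlsig _ hp1)) (hc1 _ (hlsig _ (hlsig _ (hlsig _ hp1))))
      (hc1 _ (hlsig _ (hlsig _ hp1))) ((list_single_le l Row.v hp1).trans (le_of_eq (congrArg Wt.v hwt)))
      (hrep _ hp).1
    simp only [covered, hok, Bool.not_true, Bool.false_or, List.any_eq_true, Bool.or_eq_true,
      List.contains_iff_mem] at hb
    obtain ⟨s, hs, h1 | h1⟩ := hb
    · exact ⟨((s, true), e), h1, rfl, by simpa [sval] using hs⟩
    · exact ⟨((s.neg, false), e), h1, rfl, by simpa [sval, Row.neg] using hs⟩
  have : Nonempty ((Row × Bool) × ℤ) := ⟨((z, true), 0)⟩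
  choose! φ hφ using hcand
  set A : List ((Row × Bool) × ℤ) := R.map φ with hA
  set R' : List (Row × ℤ) := A.map fun q => (sval q.1, q.2) with hR'
  have hRR' : (R'.flatMap orbE).Perm (R.flatMap orbE) := by
    simp only [hR', hA, List.flatMap_map]
    refine List.Perm.flatMap_left _ fun p hp => ?_
    simp only [orbE, (hφ p hp).2.1]
    exact (orbit_perm_of_mem (hφ p hp).2.2).map _
  have hlo : ∀ p ∈ R', p.1.lo ≤ p.2 := by
    intro p hp
    simp only [hR', hA, List.map_map, List.mem_map, Function.comp_apply] at hp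
    obtain ⟨p₀, hp₀, rfl⟩ := hp
    have hmemM : ((sval (φ p₀).1, (φ p₀).2) : Row × ℤ) ∈ M := by
      rw [hR, Multiset.mem_coe, List.mem_flatMap]
      refine ⟨p₀, hp₀, ?_⟩
      rw [orbE, List.mem_map]
      exact ⟨_, (hφ p₀ hp₀).2.2, by rw [(hφ p₀ hp₀).2.1]⟩
    obtain ⟨x, -, hx⟩ := Multiset.mem_map.1 (Multiset.mem_filter.1 hmemM).1
    rw [← hx]
    show (row x).lo ≤ D.E x
    have h2 := D.lt_sub_v x
    have h3 := D.deg_pos x
    have h4 := D.psi_nonneg x
    rw [Fin.sum_univ_five] at h3 h4
    simp only [Row.lo, Row.off, Row.q, hrow, max_le_iff]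
    omega
  have hsol := sol_of_rows R' hlo
  rw [(hRR'.map tv).sum_eq, (hRR'.map tu).sum_eq, (hRR'.map fun p : Row × ℤ => p.1.c0 * p.2).sum_eq,
    (hRR'.map fun p : Row × ℤ => p.1.c1 * p.2).sum_eq] at hsol
  have z1 : ((R.flatMap orbE).map tv).sum = 1 := by
    rw [total tv fun e => by simp [tv, z]]
    refine Eq.trans (Finset.sum_congr rfl fun x _ => ?_) D.pairs_v
    simp only [tv, hkey, hrow, Row.q, Row.off, Fin.sum_univ_five]
    congr 1 <;> (congr 1; ring)
  have z2 : ((R.flatMap orbE).map tu).sum = -1 := by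
    rw [total tu fun e => by simp [tu, z]]
    refine Eq.trans (Finset.sum_congr rfl fun x _ => ?_) D.pairs_c
    simp only [tu, hkey, hrow, Row.q, Row.off, Fin.sum_univ_five]
    congr 1 <;> (congr 1; ring)
  have z3 : ((R.flatMap orbE).map fun p : Row × ℤ => p.1.c0 * p.2).sum = -1 :=
    (total (fun p : Row × ℤ => p.1.c0 * p.2) fun e => by simp [z]).trans (D.linear_c 0)
  have z4 : ((R.flatMap orbE).map fun p : Row × ℤ => p.1.c1 * p.2).sum = -1 :=
    (total (fun p : Row × ℤ => p.1.c1 * p.2) fun e => by simp [z]).trans (D.linear_c 1)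
  rw [z1, z2, z3, z4] at hsol
  obtain ⟨cf1, cf2⟩ := cands_facts
  have hAc : ∀ q ∈ A, q.1.1 ∈ cands := fun q hq => by
    obtain ⟨p, hp, rfl⟩ := List.mem_map.1 hq
    exact (hφ p hp).1
  have hgen : ∀ L : List ((Row × Bool) × ℤ), wt ((L.map fun q => q.1.1).flatMap Row.orbit) =
      wt (((L.map fun q => ((sval q.1, q.2) : Row × ℤ)).map Prod.fst).flatMap Row.orbit) := by
    intro L
    induction L with
    | nil => rfl
    | cons a t ih =>
      have hneg : wt a.1.1.orbit = wt (sval a.1).orbit := by
        obtain ⟨⟨r, b⟩, e⟩ := a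
        cases b
        · exact wt_orbit_neg r
        · rfl
      simp only [List.map_cons, List.flatMap_cons, wt_append, ih, hneg]
  have hAwt : wt ((A.map fun q => q.1.1).flatMap Row.orbit) = target := by
    rw [hgen, ← hR', ← hwt, ← horb R, ← wt_perm (hRR'.map Prod.fst), horb R']
  obtain ⟨B, hB, hleaf⟩ := cover_sound (fun q : (Row × Bool) × ℤ => q.1.1) leaf hc.search cf2
    (C := []) (A := A) rfl hAc hAwt
  rw [List.nil_append] at hB
  rw [leaf, List.all_eq_true] at hleaf
  obtain ⟨l, hl, hlp⟩ := signed_sound (A := B.map Prod.fst)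
    (fun p hp q hq => by
      obtain ⟨p', hp', rfl⟩ := List.mem_map.1 hp
      obtain ⟨q', hq', rfl⟩ := List.mem_map.1 hq
      exact cf1 _ (hAc _ (hB.subset hp')) _ (hAc _ (hB.subset hq')))
    (rs := B.map fun q => q.1.1) (by simp [List.map_map, Function.comp_def])
  have hperm : (R'.map fun p => Item.ofRow p.1).Perm (l.map Item.ofRow) := by
    have h1 : (R'.map fun p => Item.ofRow p.1) = ((A.map Prod.fst).map sval).map Item.ofRow := by
      simp [hR', List.map_map, Function.comp_def]
    rw [h1]
    exact (((hB.map Prod.fst).symm.map sval).trans hlp.symm).map _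
  refine not_sol_of_deg (hleaf l hl) Int.one_pos Int.one_pos (fun w hw => ?_) ?_
  · obtain ⟨r, -, rfl⟩ := List.mem_map.1 hw
    exact d_ofRow_pos r
  · simpa [start, Frac.val] using hsol.perm hperm

end Cfsg.Agent.H53.U34.Check
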