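import Cfsg.Agent.H53.U34.Check.Defs

/-!
# The search, cut into pieces for separate evaluation
-/

set_option autoImplicit false

namespace Cfsg.Agent.H53.U34.Check

/-- The part of the search below the `i`-th top branches. -/
def part (is : List ℕ) : Bool :=
  is.all fun i => match (branches (key target) cands)[i]? with
    | some p => cover leaf 39 p.2 (target.sub (wt p.1.orbit)) [p.1]
    | none => true

/-- Values used for the bounded universe. -/
def small : List ℤ := [-2, -1, 0, 1, 2]

/-- The covering test with the first coordinate fixed. -/
def coveredAt (c0 : ℤ) : Bool :=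
  small.all fun c1 => small.all fun c2 => small.all fun c3 => small.all fun c4 =>
    [-3, -2, -1, 0, 1, 2, 3].all fun v =>
      decide ((⟨c0, c1, c2, c3, c4, v⟩ : Row) = ⟨0, 0, 0, 0, 0, 0⟩) || covered ⟨c0, c1, c2, c3, c4, v⟩

end Cfsg.Agent.H53.U34.Check
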